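import Mathlib
import Groth.Prelude.Def_W4c1liftfrobW2

/-!
# `W₂(k)` for a perfect field, flat modules over it, liftings
-/

set_option linter.style.haveILetI false

open TensorProduct

namespace Groth.Agent.W2Lib

universe u v

variable {p : ℕ} [Fact p.Prime] {k : Type u} [Field k] [CharP k p]

theorem coeff_truncate' (X : WittVector p k) (i : Fin 2) :
    (WittVector.truncate 2 X).coeff i = X.coeff i := WittVector.coeff_truncate _ _

theorem p_mul_p : (p : FrobAlg.W2 p k) * p = 0 := by
  rw [← map_natCast (WittVector.truncate (p := p) (R := k) 2), ← map_mul, ← RingHom.mem_ker,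
    WittVector.mem_ker_truncate]
  intro i hi
  interval_cases i
  · exact WittVector.mul_charP_coeff_zero _
  · rw [WittVector.mul_charP_coeff_succ]
    rw [← one_mul (p : WittVector p k), WittVector.mul_charP_coeff_zero, zero_pow]
    exact (Fact.out : p.Prime).ne_zero

theorem res_p : FrobAlg.res p k (p : FrobAlg.W2 p k) = 0 := by
  rw [map_natCast, CharP.cast_eq_zero]

theorem res_truncate' (X : WittVector p k) :
    FrobAlg.res p k (WittVector.truncate 2 X) = X.coeff 0 := FrobAlg.res_truncate p k X

variable [PerfectRing k p]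

theorem exists_eq_p_mul {x : FrobAlg.W2 p k} (hx : FrobAlg.res p k x = 0) :
    ∃ y, x = (p : FrobAlg.W2 p k) * y := by
  obtain ⟨X, rfl⟩ := WittVector.truncate_surjective p 2 k x
  rw [res_truncate'] at hx
  obtain ⟨Y, hY⟩ := (WittVector.frobenius_bijective p k).surjective (X.shift 1)
  have hX : X = Y * (p : WittVector p k) := by
    rw [← WittVector.verschiebung_frobenius, hY]
    exact WittVector.eq_iterate_verschiebung (n := 1) fun i hi => by
      obtain rfl : i = 0 := by omega
      exact hx
  exact ⟨WittVector.truncate 2 Y, by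
    conv_lhs => rw [hX]
    rw [map_mul, map_natCast, mul_comm]⟩

theorem res_eq_zero_iff {x : FrobAlg.W2 p k} :
    FrobAlg.res p k x = 0 ↔ x ∈ Ideal.span {(p : FrobAlg.W2 p k)} := by
  rw [Ideal.mem_span_singleton]
  exact ⟨fun h => exists_eq_p_mul h, fun ⟨y, hy⟩ => by rw [hy, map_mul, res_p, zero_mul]⟩

theorem ker_res : RingHom.ker (FrobAlg.res p k) = Ideal.span {(p : FrobAlg.W2 p k)} := by
  ext x; exact res_eq_zero_iff

omit [PerfectRing k p] in
theorem res_eq_zero_of_p_mul {x : FrobAlg.W2 p k} (hx : (p : FrobAlg.W2 p k) * x = 0) :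
    FrobAlg.res p k x = 0 := by
  obtain ⟨X, rfl⟩ := WittVector.truncate_surjective p 2 k x
  rw [← map_natCast (WittVector.truncate (p := p) (R := k) 2), ← map_mul, ← RingHom.mem_ker,
    WittVector.mem_ker_truncate] at hx
  have h1 := hx 1 (by omega)
  rw [mul_comm, WittVector.mul_charP_coeff_succ] at h1
  rw [res_truncate']
  exact eq_zero_of_pow_eq_zero h1

theorem isUnit_of_res_ne_zero {x : FrobAlg.W2 p k} (hx : FrobAlg.res p k x ≠ 0) : IsUnit x := by
  obtain ⟨X, rfl⟩ := WittVector.truncate_surjective p 2 k x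
  rw [res_truncate'] at hx
  exact (WittVector.isUnit_of_coeff_zero_ne_zero X hx).map _

/-- Flatness over `W₂(k)`. -/
theorem flat_iff (M : Type v) [AddCommGroup M] [Module (FrobAlg.W2 p k) M] :
    Module.Flat (FrobAlg.W2 p k) M ↔
      ∀ m : M, (p : FrobAlg.W2 p k) • m = 0 → ∃ y : M, m = (p : FrobAlg.W2 p k) • y := by
  set R := FrobAlg.W2 p k
  constructor
  · intro hf m hm
    have hexact : Function.Exact (LinearMap.lsmul R R (p : R)) (LinearMap.lsmul R R (p : R)) := by
      intro x
      constructor
      · intro hx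
        obtain ⟨y, hy⟩ := exists_eq_p_mul (res_eq_zero_of_p_mul (x := x) hx)
        exact ⟨y, hy.symm⟩
      · rintro ⟨y, rfl⟩
        show (p : R) * ((p : R) * y) = 0
        rw [← mul_assoc, p_mul_p, zero_mul]
    have h2 := Module.Flat.rTensor_exact M hexact
    have hcomm : ∀ z : R ⊗[R] M, TensorProduct.lid R M ((LinearMap.lsmul R R (p : R)).rTensor M z) =
        (p : R) • TensorProduct.lid R M z := by
      intro z
      induction z using TensorProduct.induction_on with
      | zero => simp
      | tmul a b => simp [mul_smul]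
      | add x y hx hy => simp [hx, hy, smul_add]
    obtain ⟨w, hw⟩ := (h2 ((1 : R) ⊗ₜ[R] m)).1
      ((TensorProduct.lid R M).injective (by rw [hcomm, map_zero]; simpa using hm))
    refine ⟨TensorProduct.lid R M w, ?_⟩
    rw [← hcomm, hw]; simp
  · intro h
    rw [Module.Flat.iff_rTensor_injective']
    intro I
    by_cases hI : ∃ x ∈ I, FrobAlg.res p k x ≠ 0
    · obtain ⟨x, hxI, hx⟩ := hI
      obtain rfl : I = ⊤ := I.eq_top_of_isUnit_mem hxI (isUnit_of_res_ne_zero hx)
      exact (LinearEquiv.rTensor M (Submodule.topEquiv (R := R) (M := R))).injective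
    push Not at hI
    have hle : ∀ x : I, ∃ c : R, (x : R) = (p : R) * c := fun x => exists_eq_p_mul (hI x.1 x.2)
    by_cases hp : (p : R) ∈ I
    · have hrep : ∀ z : I ⊗[R] M, ∃ m : M, z = (⟨(p : R), hp⟩ : I) ⊗ₜ[R] m := by
        intro z
        induction z using TensorProduct.induction_on with
        | zero => exact ⟨0, by simp⟩
        | tmul a b =>
          obtain ⟨c, hc⟩ := hle a
          refine ⟨c • b, ?_⟩
          rw [← TensorProduct.smul_tmul]
          congr 1
          exact Subtype.ext (by simp [hc, mul_comm])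
        | add x y hx hy =>
          obtain ⟨a, rfl⟩ := hx
          obtain ⟨b, rfl⟩ := hy
          exact ⟨a + b, (TensorProduct.tmul_add _ _ _).symm⟩
      rw [injective_iff_map_eq_zero]
      intro z hz
      obtain ⟨m, rfl⟩ := hrep z
      have hm : (p : R) • m = 0 := by
        have := congrArg (TensorProduct.lid R M) hz
        rw [LinearMap.rTensor_tmul, TensorProduct.lid_tmul, map_zero] at this
        exact this
      obtain ⟨y, rfl⟩ := h m hm
      rw [← TensorProduct.smul_tmul]
      have : (p : R) • (⟨(p : R), hp⟩ : I) = 0 := Subtype.ext (by simpa using p_mul_p)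
      rw [this, TensorProduct.zero_tmul]
    · have hbot : I = ⊥ := (Submodule.eq_bot_iff _).2 fun x hx => by
        obtain ⟨c, hc⟩ := hle ⟨x, hx⟩
        by_cases hc0 : FrobAlg.res p k c = 0
        · obtain ⟨d, rfl⟩ := exists_eq_p_mul hc0
          simp only at hc
          rw [hc, ← mul_assoc, p_mul_p, zero_mul]
        · refine absurd ?_ hp
          obtain ⟨v, hv⟩ := isUnit_of_res_ne_zero hc0
          simp only at hc
          rw [← Units.mul_inv_cancel_right (p : R) v]
          rw [hv, ← hc]
          exact I.mul_mem_right _ hx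
      subst hbot
      exact Function.injective_of_subsingleton _

section Lift

variable {A B : Type v} [CommRing A] [Algebra k A] [CommRing B] {ι : FrobAlg.W2 p k →+* B}
  {π : B →+* A}

theorem pi_p (h : FrobAlg.IsLift p k A B ι π) : π (p : B) = 0 := by
  rw [← map_natCast ι, ← RingHom.comp_apply, h.comm, RingHom.comp_apply, res_p, map_zero]

theorem ker_eq_span (h : FrobAlg.IsLift p k A B ι π) : RingHom.ker π = Ideal.span {(p : B)} := by
  rw [h.ker_eq, ker_res, Ideal.map_span, Set.image_singleton, map_natCast]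

theorem exists_eq_p_mul_of_pi (h : FrobAlg.IsLift p k A B ι π) {x : B} (hx : π x = 0) :
    ∃ y, x = (p : B) * y := by
  have : x ∈ RingHom.ker π := hx
  rw [ker_eq_span h, Ideal.mem_span_singleton] at this
  exact this

omit [PerfectRing k p] in
theorem p_mul_p' (ι : FrobAlg.W2 p k →+* B) : (p : B) * p = 0 := by
  rw [← map_natCast ι, ← map_mul, p_mul_p, map_zero]

theorem p_mul_eq_zero_iff (h : FrobAlg.IsLift p k A B ι π) {x : B} :
    (p : B) * x = 0 ↔ π x = 0 := by
  constructor
  · intro hx
    letI := ι.toAlgebra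
    haveI : Module.Flat (FrobAlg.W2 p k) B := h.flat
    obtain ⟨y, rfl⟩ := (flat_iff B).1 ‹_› x (by
      rw [Algebra.smul_def, RingHom.algebraMap_toAlgebra, map_natCast, hx])
    rw [Algebra.smul_def, RingHom.algebraMap_toAlgebra, map_natCast, map_mul, pi_p h, zero_mul]
  · intro hx
    obtain ⟨y, rfl⟩ := exists_eq_p_mul_of_pi h hx
    rw [← mul_assoc, p_mul_p' ι, zero_mul]

theorem p_mul_eq_p_mul_iff (h : FrobAlg.IsLift p k A B ι π) {x y : B} :
    (p : B) * x = (p : B) * y ↔ π x = π y := by
  rw [← sub_eq_zero, ← mul_sub, p_mul_eq_zero_iff h, map_sub, sub_eq_zero]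

theorem isLift_of (hsurj : Function.Surjective π)
    (hker : ∀ x, π x = 0 → ∃ y, x = (p : B) * y)
    (hflat : ∀ x, (p : B) * x = 0 → π x = 0)
    (hcomm : π.comp ι = (algebraMap k A).comp (FrobAlg.res p k)) :
    FrobAlg.IsLift p k A B ι π where
  flat := by
    letI := ι.toAlgebra
    show Module.Flat (FrobAlg.W2 p k) B
    rw [flat_iff]
    intro m hm
    rw [Algebra.smul_def, RingHom.algebraMap_toAlgebra, map_natCast] at hm
    obtain ⟨y, hy⟩ := hker m (hflat m hm)
    exact ⟨y, by rw [Algebra.smul_def, RingHom.algebraMap_toAlgebra, map_natCast, hy]⟩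
  surj := hsurj
  ker_eq := by
    refine le_antisymm (fun x hx => ?_) ?_
    · obtain ⟨y, rfl⟩ := hker x hx
      rw [ker_res, Ideal.map_span, Set.image_singleton, map_natCast]
      exact Ideal.mul_mem_right _ _ (Ideal.mem_span_singleton_self _)
    · rw [Ideal.map_le_iff_le_comap]
      intro w hw
      rw [Ideal.mem_comap, RingHom.mem_ker, ← RingHom.comp_apply, hcomm, RingHom.comp_apply,
        RingHom.mem_ker.1 hw, map_zero]
  comm := hcomm

end Lift

theorem exists_sigma_eq_pow_add (w : FrobAlg.W2 p k) :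
    ∃ z, FrobAlg.sigma p k w = w ^ p + (p : FrobAlg.W2 p k) * z := by
  obtain ⟨z, hz⟩ := exists_eq_p_mul (x := FrobAlg.sigma p k w - w ^ p) (by
    rw [map_sub, map_pow, sub_eq_zero, FrobAlg.res_apply, FrobAlg.res_apply]
    exact WittGrp.coeff_frob p 2 (CharP.cast_eq_zero k p) w 0)
  exact ⟨z, by rw [← hz, add_sub_cancel]⟩

end Groth.Agent.W2Lib
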