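import Groth.Agent.W2Lib.Basic

/-!
# Frobenius lifts on quotients of polynomial rings over `W₂(k)`
-/

set_option autoImplicit false
set_option backward.isDefEq.respectTransparency false
set_option backward.isDefEq.respectTransparency.types false
set_option maxHeartbeats 800000

namespace Groth.Agent.W2Lib

universe u v w

open MvPolynomial

section Ring

variable {p : ℕ} [Fact p.Prime] {S : Type v} [CommRing S]

theorem p_mul_add_pow (hS : (p : S) * p = 0) (a b : S) :
    (p : S) * (a + b) ^ p = p * a ^ p + p * b ^ p := by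
  obtain ⟨r, hr⟩ := exists_add_pow_prime_eq (Fact.out : p.Prime) a b
  rw [hr]
  linear_combination (a * b * r) * hS

theorem p_mul_sum_add (hS : (p : S) * p = 0) {ι : Type w} (s : Finset ι) (a b d : ι → S) :
    (p : S) * ∑ j ∈ s, (a j + b j) ^ p * d j = p * ∑ j ∈ s, a j ^ p * d j + p * ∑ j ∈ s, b j ^ p * d j := by
  simp only [Finset.mul_sum, ← Finset.sum_add_distrib, ← mul_assoc, p_mul_add_pow hS, add_mul]

end Ring

section Koszul

variable {S : Type v} [CommRing S]

/-- Relations between the members of a regular sequence are trivial. -/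
theorem exists_skew {m : ℕ} (f : Fin m → S)
    (hf : ∀ i : Fin m, ∀ a : S, a * f i ∈ Ideal.span (f '' {j | j < i}) → a ∈ Ideal.span (f '' {j | j < i}))
    (a : Fin m → S) (ha : ∑ i, a i * f i = 0) :
    ∃ T : Fin m → Fin m → S, ∀ i, a i = ∑ j, (T i j - T j i) * f j := by
  induction m with
  | zero => exact ⟨fun i => i.elim0, fun i => i.elim0⟩
  | succ m ih =>
    have himg : f '' {j | j < Fin.last m} = Set.range fun j : Fin m => f j.castSucc := by
      ext y
      constructor
      · rintro ⟨j, hj, rfl⟩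
        exact ⟨j.castPred (ne_of_lt hj), by simp⟩
      · rintro ⟨j, rfl⟩
        exact ⟨j.castSucc, Fin.castSucc_lt_last j, rfl⟩
    obtain ⟨c, hc⟩ : ∃ c : Fin m → S, ∑ j, c j * f j.castSucc = a (Fin.last m) := by
      have h := hf (Fin.last m) (a (Fin.last m)) ?_
      · rw [himg, Ideal.span, Submodule.mem_span_range_iff_exists_fun] at h
        simpa only [smul_eq_mul] using h
      · rw [Fin.sum_univ_castSucc] at ha
        rw [himg, eq_neg_of_add_eq_zero_right ha]
        exact neg_mem (sum_mem fun j _ => Ideal.mul_mem_left _ _ (Ideal.subset_span ⟨j, rfl⟩))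
    have hreg : ∀ i : Fin m, ∀ b : S, b * f i.castSucc ∈ Ideal.span ((fun j : Fin m => f j.castSucc) '' {j | j < i}) →
        b ∈ Ideal.span ((fun j : Fin m => f j.castSucc) '' {j | j < i}) := by
      intro i b hb
      have hset : f '' {j | j < i.castSucc} = (fun j : Fin m => f j.castSucc) '' {j | j < i} := by
        ext y
        constructor
        · rintro ⟨j, hj, rfl⟩
          refine ⟨j.castPred (ne_of_lt (lt_trans hj (Fin.castSucc_lt_last i))), ?_, by simp⟩
          show (j.castPred _) < i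
          rw [Fin.lt_def]
          simpa [Fin.lt_def] using hj
        · rintro ⟨j, hj, rfl⟩
          exact ⟨j.castSucc, Fin.castSucc_lt_castSucc_iff.2 hj, rfl⟩
      rw [← hset] at hb ⊢
      exact hf _ _ hb
    have hsum0 : ∑ j : Fin m, (a j.castSucc + c j * f (Fin.last m)) * f j.castSucc = 0 := by
      simp only [add_mul, Finset.sum_add_distrib]
      rw [Fin.sum_univ_castSucc] at ha
      rw [← ha, ← hc, Finset.sum_mul]
      exact congrArg _ (Finset.sum_congr rfl fun j _ => by ring)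
    obtain ⟨T, hT⟩ := ih (fun j => f j.castSucc) hreg _ hsum0
    refine ⟨Fin.lastCases (Fin.lastCases 0 c) fun i => Fin.lastCases 0 (T i), fun i => ?_⟩
    rw [Fin.sum_univ_castSucc]
    induction i using Fin.lastCases with
    | last =>
      simp only [Fin.lastCases_last, Fin.lastCases_castSucc, sub_zero, sub_self, zero_mul, add_zero]
      exact hc.symm
    | cast i =>
      simp only [Fin.lastCases_last, Fin.lastCases_castSucc, zero_sub, ← hT i]
      ring

end Koszul

variable {p : ℕ} [Fact p.Prime] {k : Type u} [Field k] [CharP k p] [PerfectRing k p] {n m : ℕ}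



omit [PerfectRing k p] in
theorem poly_p_mul_p : (p : MvPolynomial (Fin n) (FrobAlg.W2 p k)) * p = 0 := by
  rw [← map_natCast (C (R := (FrobAlg.W2 p k)) (σ := Fin n)), ← map_mul, p_mul_p, map_zero]

theorem map_res_eq_zero_iff {x : MvPolynomial (Fin n) (FrobAlg.W2 p k)} :
    MvPolynomial.map (FrobAlg.res p k) x = 0 ↔ ∃ y, x = (p : MvPolynomial (Fin n) (FrobAlg.W2 p k)) * y := by
  rw [← RingHom.mem_ker, MvPolynomial.ker_map, ker_res, Ideal.map_span, Set.image_singleton, map_natCast,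
    Ideal.mem_span_singleton]
  exact Iff.rfl

omit [PerfectRing k p] in
theorem map_res_surjective :
    Function.Surjective (MvPolynomial.map (FrobAlg.res p k) : MvPolynomial (Fin n) (FrobAlg.W2 p k) → MvPolynomial (Fin n) k) :=
  MvPolynomial.map_surjective _ fun c =>
    ⟨WittVector.truncate 2 (WittVector.teichmuller p c),
      (res_truncate' _).trans (WittVector.teichmuller_coeff_zero _ _)⟩

omit [PerfectRing k p] in
theorem map_res_p_mul (y : MvPolynomial (Fin n) (FrobAlg.W2 p k)) :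
    MvPolynomial.map (FrobAlg.res p k) ((p : MvPolynomial (Fin n) (FrobAlg.W2 p k)) * y) = 0 := by
  rw [map_mul, map_natCast, CharP.cast_eq_zero, zero_mul]

omit [PerfectRing k p] in
theorem map_res_eq_zero_of_p_mul {y : MvPolynomial (Fin n) (FrobAlg.W2 p k)} (h : (p : MvPolynomial (Fin n) (FrobAlg.W2 p k)) * y = 0) :
    MvPolynomial.map (FrobAlg.res p k) y = 0 := by
  refine MvPolynomial.ext _ _ fun d => ?_
  rw [coeff_map, coeff_zero]
  refine res_eq_zero_of_p_mul ?_
  have := congrArg (coeff d) h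
  rwa [← map_natCast (C (R := (FrobAlg.W2 p k)) (σ := Fin n)), coeff_C_mul, coeff_zero] at this

omit [PerfectRing k p] in
theorem map_res_polyFrob (x : MvPolynomial (Fin n) (FrobAlg.W2 p k)) :
    MvPolynomial.map (FrobAlg.res p k) (FrobAlg.polyFrob p k (Fin n) x) =
      MvPolynomial.map (FrobAlg.res p k) x ^ p := by
  have h : (MvPolynomial.map (FrobAlg.res p k)).comp (FrobAlg.polyFrob p k (Fin n)) =
      (frobenius (MvPolynomial (Fin n) k) p).comp (MvPolynomial.map (FrobAlg.res p k)) := by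
    refine MvPolynomial.ringHom_ext (fun r => ?_) fun i => ?_
    · simp only [RingHom.comp_apply, FrobAlg.polyFrob, eval₂Hom_C, map_C, frobenius_def, ← map_pow]
      refine congrArg C ?_
      rw [map_pow, FrobAlg.res_apply, FrobAlg.res_apply]
      exact WittGrp.coeff_frob p 2 (CharP.cast_eq_zero k p) r 0
    · simp [FrobAlg.polyFrob, frobenius_def]
  exact RingHom.congr_fun h x

theorem exists_polyFrob_eq (x : MvPolynomial (Fin n) (FrobAlg.W2 p k)) :
    ∃ z, FrobAlg.polyFrob p k (Fin n) x = x ^ p + (p : MvPolynomial (Fin n) (FrobAlg.W2 p k)) * z := by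
  obtain ⟨z, hz⟩ := map_res_eq_zero_iff.1 (show MvPolynomial.map (FrobAlg.res p k)
    (FrobAlg.polyFrob p k (Fin n) x - x ^ p) = 0 by rw [map_sub, map_res_polyFrob, map_pow, sub_self])
  exact ⟨z, by rw [← hz, add_sub_cancel]⟩

/-- The Frobenius lift `x_j ↦ x_j^p + p d_j`. -/
noncomputable def frobTwist (d : Fin n → MvPolynomial (Fin n) (FrobAlg.W2 p k)) :
    MvPolynomial (Fin n) (FrobAlg.W2 p k) →+* MvPolynomial (Fin n) (FrobAlg.W2 p k) :=
  eval₂Hom (C.comp (FrobAlg.sigma p k)) fun j => X j ^ p + (p : MvPolynomial (Fin n) (FrobAlg.W2 p k)) * d j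

theorem frobTwist_eq (d : Fin n → MvPolynomial (Fin n) (FrobAlg.W2 p k)) (x : MvPolynomial (Fin n) (FrobAlg.W2 p k)) :
    frobTwist d x =
      FrobAlg.polyFrob p k (Fin n) x + (p : MvPolynomial (Fin n) (FrobAlg.W2 p k)) * ∑ j, pderiv j x ^ p * d j := by
  have hp0 : p ≠ 0 := (Fact.out : p.Prime).ne_zero
  induction x using MvPolynomial.induction_on with
  | C a => simp [frobTwist, FrobAlg.polyFrob, zero_pow hp0]
  | add f g hf hg =>
    simp only [map_add, hf, hg, p_mul_sum_add poly_p_mul_p]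
    ring
  | mul_X f i hf =>
    obtain ⟨z, hz⟩ := exists_polyFrob_eq f
    have hsum : (p : MvPolynomial (Fin n) (FrobAlg.W2 p k)) * ∑ j, pderiv j (f * X i) ^ p * d j =
        (p : MvPolynomial (Fin n) (FrobAlg.W2 p k)) * (∑ j, pderiv j f ^ p * d j) * X i ^ p +
          (p : MvPolynomial (Fin n) (FrobAlg.W2 p k)) * (f ^ p * d i) := by
      simp only [Derivation.leibniz, smul_eq_mul]
      rw [p_mul_sum_add poly_p_mul_p]
      have h1 : ∑ j, (f * pderiv j (X i : MvPolynomial (Fin n) (FrobAlg.W2 p k))) ^ p * d j = f ^ p * d i := by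
        rw [Finset.sum_eq_single i]
        · rw [pderiv_X_self, mul_one]
        · intro j _ hj
          rw [pderiv_X_of_ne hj.symm, mul_zero, zero_pow hp0, zero_mul]
        · simp
      rw [h1, add_comm]
      congr 1
      rw [mul_assoc, Finset.sum_mul]
      exact congrArg _ (Finset.sum_congr rfl fun j _ => by ring)
    have hX : frobTwist d (X i) = X i ^ p + (p : MvPolynomial (Fin n) (FrobAlg.W2 p k)) * d i := eval₂Hom_X' _ _ _
    rw [hsum, map_mul, map_mul, hf, hX, show FrobAlg.polyFrob p k (Fin n) (X i) = X i ^ p from eval₂Hom_X' _ _ _, hz]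
    linear_combination (z * d i + (∑ j, pderiv j f ^ p * d j) * d i) * poly_p_mul_p (n := n) (p := p) (k := k)

omit [PerfectRing k p] in
theorem map_res_frobTwist (d : Fin n → MvPolynomial (Fin n) (FrobAlg.W2 p k)) (x : MvPolynomial (Fin n) (FrobAlg.W2 p k))
    [PerfectRing k p] :
    MvPolynomial.map (FrobAlg.res p k) (frobTwist d x) = MvPolynomial.map (FrobAlg.res p k) x ^ p := by
  rw [frobTwist_eq, map_add, map_res_polyFrob, map_res_p_mul, add_zero]

variable (f' : Fin m → MvPolynomial (Fin n) (FrobAlg.W2 p k))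

/-- The Frobenius congruence. -/
def Congruence {n m : ℕ} (f' : Fin m → MvPolynomial (Fin n) (FrobAlg.W2 p k))
    (h : Fin n → MvPolynomial (Fin n) (FrobAlg.W2 p k)) : Prop :=
  ∀ i : Fin m, FrobAlg.polyFrob p k (Fin n) (f' i) - f' i ^ p
    - (p : MvPolynomial (Fin n) (FrobAlg.W2 p k)) * ∑ j, pderiv j (f' i) ^ p * h j
    ∈ Ideal.span {(p : MvPolynomial (Fin n) (FrobAlg.W2 p k))} * Ideal.span (Set.range f')

omit [Fact p.Prime] in
theorem p_mul_mem {S : Type v} [CommRing S] {J : Ideal S} (hp : (p : S) * p = 0)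
    (hJ : ∀ x, (p : S) * x ∈ J → x ∈ J ⊔ Ideal.span {(p : S)}) {x : S} (hx : (p : S) * x ∈ J) :
    (p : S) * x ∈ Ideal.span {(p : S)} * J := by
  obtain ⟨y, hy, z, hz, rfl⟩ := Submodule.mem_sup.1 (hJ x hx)
  obtain ⟨c, rfl⟩ := Ideal.mem_span_singleton.1 hz
  rw [mul_add, ← mul_assoc (p : S) p, hp, zero_mul, add_zero]
  exact Ideal.mul_mem_mul (Ideal.mem_span_singleton_self _) hy

variable {A : Type v} [CommRing A] [Algebra k A] {B : Type v} [CommRing B] {ι : (FrobAlg.W2 p k) →+* B} {π : B →+* A}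

/-- A Frobenius lift of a presented lifting gives the congruence. -/
theorem exists_congruence_of_frobLift {Φ : B →+* B} (hL : FrobAlg.IsFrobLift p k A B ι π Φ)
    (ψ : MvPolynomial (Fin n) (FrobAlg.W2 p k) →+* B) (hC : ψ.comp C = ι) (hψ : Function.Surjective ψ)
    (hker : RingHom.ker ψ = Ideal.span (Set.range f')) :
    ∃ h, Congruence f' h := by
  have hp : ∀ y, ψ ((p : MvPolynomial (Fin n) (FrobAlg.W2 p k)) * y) = (p : B) * ψ y := fun y => by rw [map_mul, map_natCast]
  have hd : ∀ j, ∃ d, Φ (ψ (X j)) = ψ (X j ^ p + (p : MvPolynomial (Fin n) (FrobAlg.W2 p k)) * d) := fun j => by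
    obtain ⟨y, hy⟩ := exists_eq_p_mul_of_pi hL.toIsLift (x := Φ (ψ (X j)) - ψ (X j) ^ p)
      (by rw [map_sub, map_pow, hL.red, sub_self])
    obtain ⟨d, rfl⟩ := hψ y
    exact ⟨d, by rw [map_add, map_pow, hp, ← hy, add_sub_cancel]⟩
  choose d hd using hd
  have hΦ : Φ.comp ψ = ψ.comp (frobTwist d) := by
    refine MvPolynomial.ringHom_ext (fun r => ?_) fun j => ?_
    · simp only [RingHom.comp_apply, frobTwist, eval₂Hom_C]
      have h1 := RingHom.congr_fun hC
      simp only [RingHom.comp_apply] at h1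
      rw [h1, h1, ← RingHom.comp_apply Φ, hL.semi, RingHom.comp_apply]
    · simp only [RingHom.comp_apply, frobTwist, eval₂Hom_X']
      exact hd j
  have hJp : ∀ x, (p : MvPolynomial (Fin n) (FrobAlg.W2 p k)) * x ∈ Ideal.span (Set.range f') →
      x ∈ Ideal.span (Set.range f') ⊔ Ideal.span {(p : MvPolynomial (Fin n) (FrobAlg.W2 p k))} := by
    intro x hx
    rw [← hker, RingHom.mem_ker, hp, p_mul_eq_zero_iff hL.toIsLift] at hx
    obtain ⟨y, hy⟩ := exists_eq_p_mul_of_pi hL.toIsLift hx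
    obtain ⟨z, rfl⟩ := hψ y
    refine Submodule.mem_sup.2 ⟨x - p * z, ?_, p * z,
      Ideal.mem_span_singleton.2 (dvd_mul_right _ _), sub_add_cancel _ _⟩
    rw [← hker, RingHom.mem_ker, map_sub, hp, ← hy, sub_self]
  refine ⟨fun j => -d j, fun i => ?_⟩
  have hmem : frobTwist d (f' i) ∈ Ideal.span (Set.range f') := by
    rw [← hker, RingHom.mem_ker, ← RingHom.comp_apply ψ, ← hΦ, RingHom.comp_apply,
      show ψ (f' i) = 0 from RingHom.mem_ker.1 (hker.symm ▸ Ideal.subset_span ⟨i, rfl⟩), map_zero]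
  obtain ⟨z, hz⟩ := exists_polyFrob_eq (f' i)
  simp only [mul_neg, Finset.sum_neg_distrib, sub_neg_eq_add]
  have heq : FrobAlg.polyFrob p k (Fin n) (f' i) - f' i ^ p + p * ∑ j, pderiv j (f' i) ^ p * d j =
      (p : MvPolynomial (Fin n) (FrobAlg.W2 p k)) * (z + ∑ j, pderiv j (f' i) ^ p * d j) := by rw [hz]; ring
  rw [heq]
  refine p_mul_mem poly_p_mul_p hJp ?_
  rw [← heq, ← add_sub_right_comm, ← frobTwist_eq]
  exact sub_mem hmem (Ideal.pow_mem_of_mem _
    (Ideal.subset_span ⟨i, rfl⟩ : f' i ∈ Ideal.span (Set.range f')) _ (Fact.out : p.Prime).pos)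

/-- The congruence gives a Frobenius lift on the quotient. -/
theorem exists_frobLift_of_congruence (h : Fin n → MvPolynomial (Fin n) (FrobAlg.W2 p k)) (hh : Congruence f' h) :
    ∃ Φ : (MvPolynomial (Fin n) (FrobAlg.W2 p k) ⧸ Ideal.span (Set.range f')) →+*
        (MvPolynomial (Fin n) (FrobAlg.W2 p k) ⧸ Ideal.span (Set.range f')),
      Φ.comp ((Ideal.Quotient.mk (Ideal.span (Set.range f'))).comp C) =
        ((Ideal.Quotient.mk (Ideal.span (Set.range f'))).comp C).comp (FrobAlg.sigma p k) ∧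
      ∀ x : MvPolynomial (Fin n) (FrobAlg.W2 p k), ∃ y, MvPolynomial.map (FrobAlg.res p k) y =
          MvPolynomial.map (FrobAlg.res p k) x ^ p ∧
        Φ (Ideal.Quotient.mk (Ideal.span (Set.range f')) x) = Ideal.Quotient.mk (Ideal.span (Set.range f')) y := by
  let d : Fin n → MvPolynomial (Fin n) (FrobAlg.W2 p k) := fun j => -h j
  have hle : Ideal.span (Set.range f') ≤
      RingHom.ker ((Ideal.Quotient.mk (Ideal.span (Set.range f'))).comp (frobTwist d)) := by
    rw [Ideal.span_le]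
    rintro _ ⟨i, rfl⟩
    rw [SetLike.mem_coe, RingHom.mem_ker, RingHom.comp_apply, Ideal.Quotient.eq_zero_iff_mem, frobTwist_eq]
    simp only [d, mul_neg, Finset.sum_neg_distrib]
    have h1 : FrobAlg.polyFrob p k (Fin n) (f' i) - f' i ^ p
        - (p : MvPolynomial (Fin n) (FrobAlg.W2 p k)) * ∑ j, pderiv j (f' i) ^ p * h j ∈ Ideal.span (Set.range f') :=
      Ideal.mul_le_right (I := Ideal.span {(p : MvPolynomial (Fin n) (FrobAlg.W2 p k))}) (J := Ideal.span (Set.range f')) (hh i)
    have h2 := add_mem h1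
      (Ideal.pow_mem_of_mem _ (Ideal.subset_span ⟨i, rfl⟩ : f' i ∈ Ideal.span (Set.range f')) p (Fact.out : p.Prime).pos)
    convert h2 using 1
    ring
  refine ⟨Ideal.Quotient.lift _ ((Ideal.Quotient.mk _).comp (frobTwist d)) fun x hx => RingHom.mem_ker.1 (hle hx),
    RingHom.ext fun r => ?_, fun x => ⟨frobTwist d x, map_res_frobTwist d x, Ideal.Quotient.lift_mk _ _ _⟩⟩
  simp only [RingHom.comp_apply, Ideal.Quotient.lift_mk, frobTwist, eval₂Hom_C]

/-- Quotients by lifts are flat liftings as soon as `p`-torsion is under control. -/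
theorem isLift_quotient {A : Type u} [CommRing A] [Algebra k A] (π₀ : (MvPolynomial (Fin n) (FrobAlg.W2 p k) ⧸ Ideal.span (Set.range f')) →+* A)
    (hπ₀ : ∀ x, π₀ (Ideal.Quotient.mk _ x) = 0 ↔
      MvPolynomial.map (FrobAlg.res p k) x ∈
        (Ideal.span (Set.range f')).map (MvPolynomial.map (FrobAlg.res p k)))
    (hsurj : Function.Surjective π₀)
    (hcomm : π₀.comp ((Ideal.Quotient.mk _).comp C) = (algebraMap k A).comp (FrobAlg.res p k))
    (hJ : ∀ x, (p : MvPolynomial (Fin n) (FrobAlg.W2 p k)) * x ∈ Ideal.span (Set.range f') →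
      x ∈ Ideal.span (Set.range f') ⊔ Ideal.span {(p : MvPolynomial (Fin n) (FrobAlg.W2 p k))}) :
    FrobAlg.IsLift p k A (MvPolynomial (Fin n) (FrobAlg.W2 p k) ⧸ Ideal.span (Set.range f'))
      ((Ideal.Quotient.mk _).comp C) π₀ := by
  refine isLift_of hsurj (fun q hq => ?_) (fun q hq => ?_) hcomm
  · obtain ⟨x, rfl⟩ := Ideal.Quotient.mk_surjective q
    rw [hπ₀, Ideal.mem_map_iff_of_surjective _ map_res_surjective] at hq
    obtain ⟨y, hy, hxy⟩ := hq
    obtain ⟨z, hz⟩ := map_res_eq_zero_iff.1 (show MvPolynomial.map (FrobAlg.res p k) (x - y) = 0 by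
      rw [map_sub, hxy, sub_self])
    refine ⟨Ideal.Quotient.mk _ z, ?_⟩
    rw [← map_natCast (Ideal.Quotient.mk (Ideal.span (Set.range f'))), ← map_mul, Ideal.Quotient.eq, ← hz,
      sub_sub_cancel]
    exact hy
  · obtain ⟨x, rfl⟩ := Ideal.Quotient.mk_surjective q
    rw [← map_natCast (Ideal.Quotient.mk (Ideal.span (Set.range f'))), ← map_mul,
      Ideal.Quotient.eq_zero_iff_mem] at hq
    obtain ⟨y, hy, z, hz, rfl⟩ := Submodule.mem_sup.1 (hJ x hq)
    obtain ⟨c, rfl⟩ := Ideal.mem_span_singleton.1 hz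
    rw [hπ₀, map_add, map_res_p_mul, add_zero]
    exact Ideal.mem_map_of_mem _ hy

/-- Lifts of a regular sequence control the `p`-torsion. -/
theorem mem_sup_of_regular (f : Fin m → MvPolynomial (Fin n) k)
    (hf' : ∀ i, MvPolynomial.map (FrobAlg.res p k) (f' i) = f i)
    (hf : ∀ i : Fin m, ∀ a, a * f i ∈ Ideal.span (f '' {j | j < i}) → a ∈ Ideal.span (f '' {j | j < i}))
    (x : MvPolynomial (Fin n) (FrobAlg.W2 p k)) (hx : (p : MvPolynomial (Fin n) (FrobAlg.W2 p k)) * x ∈ Ideal.span (Set.range f')) :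
    x ∈ Ideal.span (Set.range f') ⊔ Ideal.span {(p : MvPolynomial (Fin n) (FrobAlg.W2 p k))} := by
  classical
  rw [Ideal.span, Submodule.mem_span_range_iff_exists_fun] at hx
  obtain ⟨a, ha⟩ := hx
  simp only [smul_eq_mul] at ha
  obtain ⟨T, hT⟩ := exists_skew f hf (fun i => MvPolynomial.map (FrobAlg.res p k) (a i)) (by
    have h1 := congrArg (MvPolynomial.map (FrobAlg.res p k)) ha
    simpa [map_sum, map_mul, hf', map_res_p_mul] using h1)
  choose T' hT' using fun i j => map_res_surjective (p := p) (T i j)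
  choose b hb using fun i => map_res_eq_zero_iff.1 (show MvPolynomial.map (FrobAlg.res p k)
    (a i - ∑ j, (T' i j - T' j i) * f' j) = 0 by
      rw [map_sub, map_sum, hT i]; simp [hT', hf'])
  have hkz : ∑ i, (∑ j, (T' i j - T' j i) * f' j) * f' i = 0 := by
    simp only [Finset.sum_mul, sub_mul, Finset.sum_sub_distrib]
    rw [sub_eq_zero, Finset.sum_comm]
    exact Finset.sum_congr rfl fun i _ => Finset.sum_congr rfl fun j _ => by ring
  have h2 : (p : MvPolynomial (Fin n) (FrobAlg.W2 p k)) * (x - ∑ i, b i * f' i) = 0 := by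
    rw [mul_sub, ← ha, Finset.mul_sum]
    have h3 : ∀ i, a i * f' i = p * (b i * f' i) + (∑ j, (T' i j - T' j i) * f' j) * f' i := fun i => by
      rw [← mul_assoc, ← hb i]; ring
    simp only [h3, Finset.sum_add_distrib, hkz, add_zero, sub_self]
  obtain ⟨z, hz⟩ := map_res_eq_zero_iff.1 (map_res_eq_zero_of_p_mul h2)
  refine Submodule.mem_sup.2 ⟨∑ i, b i * f' i, sum_mem fun i _ => Ideal.mul_mem_left _ _ (Ideal.subset_span ⟨i, rfl⟩),
    p * z, Ideal.mem_span_singleton.2 (dvd_mul_right _ _), ?_⟩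
  rw [← hz, add_sub_cancel]

end Groth.Agent.W2Lib
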