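import Groth.Agent.W2Lib.Basic

/-!
Liftability over `W₂(k)` descends along faithfully flat maps.
-/

set_option autoImplicit false
set_option backward.isDefEq.respectTransparency false
set_option backward.isDefEq.respectTransparency.types false
set_option linter.style.haveILetI false

open TensorProduct

namespace Groth.Agent.W2Lib

universe u

variable {p : ℕ} [Fact p.Prime] {k : Type u} [Field k] [CharP k p] [PerfectRing k p]

theorem exists_smul_preimage {A B : Type u} [CommRing A] [CommRing B] [Algebra A B] [Module.FaithfullyFlat A B]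
    {r s : ℕ} (M : Fin s → Fin r → A) (v : Fin s → A) (h : Fin r → B)
    (hh : ∀ j, ∑ i, algebraMap A B (M j i) * h i = algebraMap A B (v j)) :
    ∃ x : Fin r → A, ∀ j, ∑ i, M j i * x i = v j := by
  classical
  let T : (Fin r → A) →ₗ[A] (Fin s → A) :=
    { toFun := fun x j => ∑ i, M j i * x i
      map_add' := fun x y => funext fun j => by simp [mul_add, Finset.sum_add_distrib]
      map_smul' := fun c x => funext fun j => by
        simp [Finset.mul_sum, mul_left_comm] }
  let q := (LinearMap.range T).mkQ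
  let e : Fin s → (Fin s → A) := fun j => Pi.single j 1
  have hv : ∀ w : Fin s → A, w = ∑ j, w j • e j := fun w => pi_eq_sum_univ' w
  have key : ∀ i, ∑ j, M j i • q (e j) = 0 := fun i => by
    simp only [← map_smul, ← map_sum]
    rw [Submodule.mkQ_apply, Submodule.Quotient.mk_eq_zero]
    refine ⟨Pi.single i 1, funext fun j => ?_⟩
    simp [T, e, Pi.single_apply, Finset.sum_apply]
  have h0 : (1 : B) ⊗ₜ[A] q v = 0 := by
    calc (1 : B) ⊗ₜ[A] q v = ∑ j, algebraMap A B (v j) ⊗ₜ[A] q (e j) := by
          conv_lhs => rw [hv v, map_sum, TensorProduct.tmul_sum]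
          refine Finset.sum_congr rfl fun j _ => ?_
          rw [map_smul, TensorProduct.tmul_smul, TensorProduct.smul_tmul', Algebra.smul_def, mul_one]
      _ = ∑ i, h i ⊗ₜ[A] (∑ j, M j i • q (e j)) := by
          simp only [← hh, TensorProduct.sum_tmul, TensorProduct.tmul_sum]
          rw [Finset.sum_comm]
          refine Finset.sum_congr rfl fun i _ => Finset.sum_congr rfl fun j _ => ?_
          rw [TensorProduct.tmul_smul, TensorProduct.smul_tmul', Algebra.smul_def]
      _ = 0 := by simp [key]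
  have hq : q v = 0 := Module.FaithfullyFlat.tensorProduct_mk_injective (A := A) (B := B) _ (by
    simpa using h0)
  obtain ⟨x, hx⟩ := (Submodule.Quotient.mk_eq_zero _).1 hq
  exact ⟨x, fun j => congrFun hx j⟩

theorem isW2Liftable_of_presentation {A B P R : Type u} [CommRing A] [CommRing B] [Algebra k A] [Algebra k B]
    [Algebra A B] [IsScalarTower k A B] [Module.FaithfullyFlat A B]
    [CommRing P] [Algebra k P] [IsNoetherianRing P] [CommRing R]
    {ι : FrobAlg.W2 p k →+* R} {π : R →+* P} (hR : FrobAlg.IsLift p k P R ι π)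
    (φ : P →ₐ[k] A) (hφ : Function.Surjective φ)
    {S : Type u} [CommRing S] {ιB : FrobAlg.W2 p k →+* S} {πB : S →+* B} (hS : FrobAlg.IsLift p k B S ιB πB)
    (ψ : R →+* S) (hψ : ∀ x, πB (ψ x) = algebraMap A B (φ (π x))) :
    FrobAlg.IsW2Liftable p k A := by
  classical
  obtain ⟨r, f, hf⟩ := Submodule.fg_iff_exists_fin_generating_family.1
    (IsNoetherian.noetherian (RingHom.ker φ.toRingHom))
  choose ft hft using fun i => hR.surj (f i)
  let L : (Fin r → P) →ₗ[P] P := Fintype.linearCombination P f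
  obtain ⟨s, a, ha⟩ := Submodule.fg_iff_exists_fin_generating_family.1 (IsNoetherian.noetherian (LinearMap.ker L))
  choose at' hat using fun j i => hR.surj (a j i)
  have hfker : ∀ i, φ (f i) = 0 := fun i => by
    have : f i ∈ RingHom.ker φ.toRingHom := hf ▸ Submodule.subset_span ⟨i, rfl⟩
    exact this
  have hLa : ∀ j, ∑ i, a j i * f i = 0 := fun j => by
    have : a j ∈ LinearMap.ker L := ha ▸ Submodule.subset_span ⟨j, rfl⟩
    simpa [L, Fintype.linearCombination_apply] using this
  choose g hg using fun j => exists_eq_p_mul_of_pi hR (x := ∑ i, at' j i * ft i) (by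
    simp only [map_sum, map_mul, hat, hft, hLa])
  choose hB' hhB using fun i => exists_eq_p_mul_of_pi hS (x := ψ (ft i)) (by
    rw [hψ, hft, hfker, map_zero])
  obtain ⟨x, hx⟩ := exists_smul_preimage (B := B) (fun j i => φ (a j i)) (fun j => φ (π (g j)))
    (fun i => πB (hB' i)) (fun j => by
      have h1 : (p : S) * ∑ i, ψ (at' j i) * hB' i = (p : S) * ψ (g j) := by
        rw [← map_natCast ψ, ← map_mul, ← hg, map_sum, Finset.mul_sum]
        refine Finset.sum_congr rfl fun i _ => ?_
        rw [map_mul, hhB, map_natCast]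
        ring
      have h2 := (p_mul_eq_p_mul_iff hS).1 h1
      simpa [map_sum, hψ, hat] using h2)
  choose xP hxP using fun i => hφ (x i)
  choose xt hxt using fun i => hR.surj (xP i)
  let f' : Fin r → R := fun i => ft i - (p : R) * xt i
  let J : Ideal R := Ideal.span (Set.range f')
  have hπf' : ∀ i, π (f' i) = f i := fun i => by simp [f', hft, pi_p hR]
  let Φ : R →+* A := φ.toRingHom.comp π
  have hJ : ∀ z ∈ J, Φ z = 0 := fun z hz => RingHom.mem_ker.1 (Ideal.span_le.2 (by
    rintro _ ⟨i, rfl⟩
    simp [Φ, hπf', hfker]) hz)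
  refine ⟨R ⧸ J, inferInstance, (Ideal.Quotient.mk J).comp ι, Ideal.Quotient.lift J Φ hJ,
    isLift_of (fun b => ?_) (fun z hz => ?_) (fun z hz => ?_) ?_⟩
  · obtain ⟨b', rfl⟩ := hφ b
    obtain ⟨b'', rfl⟩ := hR.surj b'
    exact ⟨Ideal.Quotient.mk J b'', rfl⟩
  · obtain ⟨z, rfl⟩ := Ideal.Quotient.mk_surjective z
    have hz' : π z ∈ Submodule.span P (Set.range f) := by rw [hf]; exact hz
    obtain ⟨c, hc⟩ := (Submodule.mem_span_range_iff_exists_fun P).1 hz'
    choose c' hc' using fun i => hR.surj (c i)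
    obtain ⟨y, hy⟩ := exists_eq_p_mul_of_pi hR (x := z - ∑ i, c' i * f' i) (by
      simp only [map_sub, map_sum, map_mul, hc', hπf', ← hc, smul_eq_mul, sub_self])
    refine ⟨Ideal.Quotient.mk J y, ?_⟩
    rw [← map_natCast (Ideal.Quotient.mk J), ← map_mul, ← hy, map_sub,
      (Ideal.Quotient.eq_zero_iff_mem (a := ∑ i, c' i * f' i)).2 (J.sum_mem fun i _ =>
        J.mul_mem_left _ (Ideal.subset_span ⟨i, rfl⟩)), sub_zero]
  · obtain ⟨z, rfl⟩ := Ideal.Quotient.mk_surjective z
    rw [← map_natCast (Ideal.Quotient.mk J), ← map_mul, Ideal.Quotient.eq_zero_iff_mem] at hz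
    obtain ⟨c, hc⟩ := (Submodule.mem_span_range_iff_exists_fun R).1 hz
    have hcK : (fun i => π (c i)) ∈ Submodule.span P (Set.range a) := by
      rw [ha, LinearMap.mem_ker, Fintype.linearCombination_apply]
      have := congrArg π hc
      simpa [map_sum, hπf', pi_p hR] using this
    obtain ⟨ε, hε⟩ := (Submodule.mem_span_range_iff_exists_fun P).1 hcK
    choose εt hεt using fun j => hR.surj (ε j)
    choose d hd using fun i => exists_eq_p_mul_of_pi hR (x := c i - ∑ j, εt j * at' j i) (by
      have := congrFun hε i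
      simp only [Finset.sum_apply, Pi.smul_apply, smul_eq_mul] at this
      simp only [map_sub, map_sum, map_mul, hεt, hat, this, sub_self])
    have hp2 : (p : R) * p = 0 := p_mul_p' ι
    have e1 : ∀ i, c i * f' i = (∑ j, εt j * at' j i) * ft i
        - (p : R) * ((∑ j, εt j * at' j i) * xt i) + (p : R) * (d i * ft i) := fun i => by
      simp only [f']
      linear_combination (ft i - (p : R) * xt i) * hd i - (d i * xt i) * hp2
    have e2 : (p : R) * z = (p : R) * (∑ j, εt j * g j - ∑ j, εt j * (∑ i, at' j i * xt i) +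
        ∑ i, d i * ft i) := by
      rw [← hc]
      simp only [smul_eq_mul, e1, mul_add, mul_sub, Finset.sum_add_distrib, Finset.sum_sub_distrib]
      congr 1
      congr 1
      · simp only [Finset.sum_mul, Finset.mul_sum]
        rw [Finset.sum_comm]
        refine Finset.sum_congr rfl fun j _ => ?_
        rw [mul_left_comm, ← hg, Finset.mul_sum]
        exact Finset.sum_congr rfl fun i _ => by ring
      · simp only [Finset.sum_mul, Finset.mul_sum]
        rw [Finset.sum_comm]
        exact Finset.sum_congr rfl fun j _ => Finset.sum_congr rfl fun i _ => by ring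
      · rw [Finset.mul_sum]
    have e3 := congrArg φ ((p_mul_eq_p_mul_iff hR).1 e2)
    simp only [map_add, map_sub, map_sum, map_mul, hft, hfker, hεt, hat, mul_zero, Finset.sum_const_zero,
      add_zero, hxt, hxP, hx, sub_self] at e3
    exact e3
  · ext w
    show φ (π (ι w)) = _
    rw [← RingHom.comp_apply π, hR.comm, RingHom.comp_apply, AlgHom.commutes]
    rfl

theorem isW2Liftable_of_faithfullyFlat (A B : Type u) [CommRing A] [CommRing B] [Algebra k A]
    [Algebra.EssFiniteType k A] [Algebra A B] [Module.FaithfullyFlat A B] [Algebra k B] [IsScalarTower k A B]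
    (hB : FrobAlg.IsW2Liftable p k B) : FrobAlg.IsW2Liftable p k A := by
  classical
  obtain ⟨S, _, ιB, πB, hS⟩ := hB
  let V := {x // x ∈ Algebra.EssFiniteType.finset k A}
  let Q := MvPolynomial V (FrobAlg.W2 p k)
  let Q₀ := MvPolynomial V k
  let ev : Q₀ →ₐ[k] A := MvPolynomial.aeval fun v => (v : A)
  let mp : Q →+* Q₀ := MvPolynomial.map (FrobAlg.res p k)
  let M₀ : Submonoid Q₀ := (IsUnit.submonoid A).comap ev
  let M : Submonoid Q := M₀.comap mp
  have hres : Function.Surjective (FrobAlg.res p k) := fun c => by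
    obtain ⟨X, hX⟩ := WittVector.truncate_surjective p 2 k (WittVector.truncate 2 (WittVector.teichmuller p c))
    exact ⟨WittVector.truncate 2 (WittVector.teichmuller p c), by rw [res_truncate']; exact WittVector.teichmuller_coeff_zero _ _⟩
  have hmp : Function.Surjective mp := MvPolynomial.map_surjective _ hres
  let R := Localization M
  let P := Localization M₀
  haveI : IsLocalization M R := Localization.isLocalization
  haveI : IsNoetherianRing P := IsLocalization.isNoetherianRing M₀ P inferInstance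
  let π : R →+* P := IsLocalization.map P mp (T := M₀) (fun x hx => hx)
  let ι : FrobAlg.W2 p k →+* R := (algebraMap Q R).comp MvPolynomial.C
  have hπ : ∀ x, π (algebraMap Q R x) = algebraMap Q₀ P (mp x) := fun x => IsLocalization.map_eq _ _
  have hkerQ : ∀ x : Q, mp x = 0 → ∃ y, x = (p : Q) * y := fun x hx => by
    have hx' : x ∈ RingHom.ker mp := hx
    rw [MvPolynomial.ker_map, ker_res, Ideal.map_span, Set.image_singleton, map_natCast,
      Ideal.mem_span_singleton] at hx'
    exact hx'
  have hflatQ : ∀ x : Q, (p : Q) * x = 0 → mp x = 0 := fun x hx => by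
    ext n
    rw [MvPolynomial.coeff_map, MvPolynomial.coeff_zero]
    refine res_eq_zero_of_p_mul ?_
    rw [← map_natCast (MvPolynomial.C (σ := V) (R := FrobAlg.W2 p k))] at hx
    have := congrArg (MvPolynomial.coeff n) hx
    rw [MvPolynomial.coeff_C_mul, MvPolynomial.coeff_zero] at this
    exact this
  have hR : FrobAlg.IsLift p k P R ι π := by
    refine isLift_of (fun b => ?_) (fun z hz => ?_) (fun z hz => ?_) ?_
    · obtain ⟨⟨c, m⟩, rfl⟩ : ∃ y : Q₀ × M₀, IsLocalization.mk' P y.1 y.2 = b :=
        ⟨_, IsLocalization.mk'_sec P b⟩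
      obtain ⟨c', rfl⟩ := hmp c
      obtain ⟨m', hm'⟩ := hmp m
      refine ⟨IsLocalization.mk' R c' (⟨m', show mp m' ∈ M₀ from hm' ▸ m.2⟩ : M), ?_⟩
      rw [IsLocalization.map_mk']
      congr 1
      exact Subtype.ext hm'
    · obtain ⟨c, m, rfl⟩ := IsLocalization.exists_mk'_eq M z
      rw [IsLocalization.map_mk', IsLocalization.mk'_eq_zero_iff] at hz
      obtain ⟨m₁, hm₁⟩ := hz
      obtain ⟨m₁', hm₁'⟩ := hmp m₁
      obtain ⟨y, hy⟩ := hkerQ (m₁' * c) (by rw [map_mul, hm₁', hm₁])
      refine ⟨IsLocalization.mk' R y (⟨m₁', show mp m₁' ∈ M₀ from hm₁' ▸ m₁.2⟩ * m : M), ?_⟩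
      rw [← map_natCast (algebraMap Q R), IsLocalization.mul_mk'_eq_mk'_of_mul, ← hy, IsLocalization.mk'_eq_iff_eq]
      congr 1
      push_cast
      ring
    · obtain ⟨c, m, rfl⟩ := IsLocalization.exists_mk'_eq M z
      rw [← map_natCast (algebraMap Q R), IsLocalization.mul_mk'_eq_mk'_of_mul, IsLocalization.mk'_eq_zero_iff] at hz
      obtain ⟨m₁, hm₁⟩ := hz
      have h1 := hflatQ (m₁ * c) (by rw [mul_left_comm]; exact hm₁)
      rw [IsLocalization.map_mk', IsLocalization.mk'_eq_zero_iff]
      exact ⟨⟨mp m₁, m₁.2⟩, by rw [← map_mul]; exact h1⟩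
    · refine RingHom.ext fun w => ?_
      simp only [ι, RingHom.comp_apply, hπ, mp, MvPolynomial.map_C]
      rw [IsScalarTower.algebraMap_apply k Q₀ P, MvPolynomial.algebraMap_eq, MvPolynomial.map_C]
  let φ : P →ₐ[k] A := IsLocalization.liftAlgHom (M := M₀) (f := ev) fun y => y.2
  have hφ : Function.Surjective φ := fun b => by
    obtain ⟨t, ht, htu, hbt⟩ :=
      (Algebra.essFiniteType_cond_iff k A _).1 (Algebra.EssFiniteType.isLocalization k A) b
    have hran : ∀ c ∈ Algebra.adjoin k ((Algebra.EssFiniteType.finset k A : Finset A) : Set A), ∃ q, ev q = c := by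
      intro c hc
      rw [show ((Algebra.EssFiniteType.finset k A : Finset A) : Set A) = Set.range (fun v : V => (v : A)) from
        Subtype.range_coe.symm, Algebra.adjoin_range_eq_range_aeval] at hc
      exact hc
    obtain ⟨qt, hqt⟩ := hran t ht
    obtain ⟨qs, hqs⟩ := hran _ hbt
    refine ⟨IsLocalization.mk' P qs (⟨qt, show IsUnit (ev qt) from hqt ▸ htu⟩ : M₀), ?_⟩
    change IsLocalization.lift _ _ = b
    rw [IsLocalization.lift_mk'_spec]
    change ev qs = ev qt * b
    rw [hqt, hqs, mul_comm]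
  choose y hy using fun v : V => hS.surj (algebraMap A B (v : A))
  let ψ₀ : Q →+* S := MvPolynomial.eval₂Hom ιB y
  have hψ₀ : ∀ q, πB (ψ₀ q) = algebraMap A B (ev (mp q)) := by
    intro q
    refine RingHom.congr_fun (MvPolynomial.ringHom_ext (f := πB.comp ψ₀)
      (g := (algebraMap A B).comp (ev.toRingHom.comp mp)) (fun w => ?_) (fun v => ?_)) q
    · simp only [RingHom.comp_apply, ψ₀, MvPolynomial.eval₂Hom_C, mp, MvPolynomial.map_C]
      rw [← RingHom.comp_apply πB, hS.comm, RingHom.comp_apply]
      erw [MvPolynomial.map_C]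
      erw [MvPolynomial.aeval_C]
      exact IsScalarTower.algebraMap_apply k A B _
    · simp only [RingHom.comp_apply, ψ₀, MvPolynomial.eval₂Hom_X', hy, mp]
      erw [MvPolynomial.map_X, MvPolynomial.aeval_X]

  have hu : ∀ m : M, IsUnit (ψ₀ m) := fun m => by
    obtain ⟨u, hu⟩ := (m.2 : IsUnit (ev (mp m.1))).map (algebraMap A B)
    obtain ⟨w, hw⟩ := hS.surj (↑u⁻¹ : B)
    obtain ⟨e, he⟩ := exists_eq_p_mul_of_pi hS (x := ψ₀ m * w - 1) (by
      rw [map_sub, map_mul, map_one, hψ₀, ← hu, hw, Units.mul_inv, sub_self])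
    refine isUnit_iff_exists_inv.2 ⟨w * (1 - (p : S) * e), ?_⟩
    linear_combination (1 - (p : S) * e) * he - e ^ 2 * p_mul_p' ιB
  let ψ : R →+* S := IsLocalization.lift hu
  refine isW2Liftable_of_presentation hR φ hφ hS ψ fun x => ?_
  obtain ⟨c, m, rfl⟩ := IsLocalization.exists_mk'_eq M x
  have hum : IsUnit (algebraMap A B (ev (mp m.1))) := (m.2 : IsUnit (ev (mp m.1))).map _
  refine hum.mul_left_cancel ?_
  have e1 : ∀ q, φ (π (algebraMap Q R q)) = ev (mp q) := fun q => by
    rw [hπ]; exact IsLocalization.lift_eq _ _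
  rw [← hψ₀, ← map_mul, ← IsLocalization.lift_eq (S := R) hu m.1, ← map_mul, mul_comm, IsLocalization.mk'_spec,
    IsLocalization.lift_eq, hψ₀, IsLocalization.lift_eq, hψ₀, ← map_mul]
  congr 1
  rw [← e1 m.1, ← e1 c, ← map_mul, ← map_mul, mul_comm, IsLocalization.mk'_spec]

end Groth.Agent.W2Lib
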