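import Groth.Agent.W2Lib.Basic

/-!
The split quadric obstructs liftings over `W₂(k)`.
-/

set_option autoImplicit false
set_option backward.isDefEq.respectTransparency false
set_option backward.isDefEq.respectTransparency.types false
set_option linter.style.haveILetI false

namespace Groth.Agent.W2Lib

open MvPolynomial

universe u

variable {p : ℕ} [Fact p.Prime] {k : Type u} [Field k] [CharP k p]

theorem exists_mixed (p : ℕ) [Fact p.Prime] (n : ℕ) :
    ∃ G : MvPolynomial (Fin n) ℤ, (∑ i, X i) ^ p - ∑ i, X i ^ p = (p : MvPolynomial (Fin n) ℤ) * G := by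
  have h : C (p : ℤ) ∣ ((∑ i, X i) ^ p - ∑ i, X i ^ p : MvPolynomial (Fin n) ℤ) := by
    rw [C_dvd_iff_zmod]
    simp only [map_sub, map_pow, map_sum, map_X, sum_pow_char, sub_self]
  obtain ⟨G, hG⟩ := h
  exact ⟨G, by rw [hG]; simp⟩

variable (k) in
/-- Substitution `t₀ = s₀`, `t₁ = s₁`, `t₂ = -(s₀ + s₁)`. -/
noncomputable def spec {n : ℕ} (i : Fin n) : MvPolynomial (Fin 2) k :=
  if (i : ℕ) = 0 then X 0 else if (i : ℕ) = 1 then X 1 else if (i : ℕ) = 2 then -(X 0 + X 1) else 0

theorem sum_spec {R : Type*} [AddCommMonoid R] {n : ℕ} (hn : 3 ≤ n) (f : Fin n → R)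
    (hf : ∀ i : Fin n, 3 ≤ (i : ℕ) → f i = 0) :
    ∑ i, f i = f ⟨0, by omega⟩ + f ⟨1, by omega⟩ + f ⟨2, by omega⟩ := by
  obtain ⟨m, rfl⟩ : ∃ m, n = 3 + m := ⟨n - 3, by omega⟩
  rw [Fin.sum_univ_add, Fin.sum_univ_three,
    Finset.sum_eq_zero (fun i _ => hf _ (by simp)), add_zero]
  rfl

/-- The exponent detecting the obstruction. -/
noncomputable def dExp (p : ℕ) : Fin 2 →₀ ℕ := Finsupp.single 0 1 + Finsupp.single 1 (p - 1)

theorem dExp_zero (p : ℕ) : dExp p 0 = 1 := by simp [dExp]

theorem dExp_one (p : ℕ) : dExp p 1 = p - 1 := by simp [dExp]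

theorem coeff_pow_mul (i : Fin 2) (f : MvPolynomial (Fin 2) k) :
    coeff (dExp p) (X i ^ p * f) = 0 := by
  have hp := (Fact.out : p.Prime).two_le
  classical
  rw [X_pow_eq_monomial, coeff_monomial_mul']
  rw [if_neg]
  intro hle
  have := hle i
  rw [Finsupp.single_eq_same] at this
  fin_cases i
  · simp [dExp_zero] at this; omega
  · simp [dExp_one] at this; omega

theorem coeff_spec_pow_mul {n : ℕ} (i : Fin n) (f : MvPolynomial (Fin 2) k) :
    coeff (dExp p) (spec k i ^ p * f) = 0 := by
  have hp := (Fact.out : p.Prime).ne_zero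
  simp only [spec]
  split_ifs with h0 h1 h2
  · exact coeff_pow_mul 0 f
  · exact coeff_pow_mul 1 f
  · rw [neg_pow, add_pow_char, mul_assoc, add_mul, mul_add, ← mul_assoc, ← mul_assoc, mul_comm _ (X 0 ^ p),
      mul_comm _ (X 1 ^ p), mul_assoc, mul_assoc, coeff_add, coeff_pow_mul, coeff_pow_mul, add_zero]
  · simp [zero_pow hp]

theorem coeff_mixed {n : ℕ} (hn : 3 ≤ n) {G : MvPolynomial (Fin n) ℤ}
    (hG : (∑ i, X i) ^ p - ∑ i, X i ^ p = (p : MvPolynomial (Fin n) ℤ) * G) :
    coeff (dExp p) (aeval (spec k) G) ≠ 0 := by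
  have hp := (Fact.out : p.Prime)
  let sZ : Fin n → MvPolynomial (Fin 2) ℤ := fun i =>
    if (i : ℕ) = 0 then X 0 else if (i : ℕ) = 1 then X 1 else if (i : ℕ) = 2 then -(X 0 + X 1) else 0
  have h1 := congrArg (aeval sZ) hG
  simp only [map_sub, map_pow, map_sum, aeval_X, map_mul, map_natCast] at h1
  rw [sum_spec hn sZ (fun i hi => by simp only [sZ]; rw [if_neg (by omega), if_neg (by omega), if_neg (by omega)]), sum_spec hn (fun i => sZ i ^ p) (fun i hi => by
    simp only [sZ]; rw [if_neg (by omega), if_neg (by omega), if_neg (by omega), zero_pow hp.ne_zero])] at h1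
  simp only [sZ, ↓reduceIte, one_ne_zero, OfNat.ofNat_ne_zero, show (2 : ℕ) ≠ 1 by omega,
    add_neg_cancel, zero_pow hp.ne_zero, zero_sub] at h1
  have hc : coeff (dExp p) (aeval sZ G) = -((-1) ^ p) := by
    have h2 := congrArg (coeff (dExp p)) h1
    have hne : ∀ i : Fin 2, (Finsupp.single i p) ≠ dExp p := fun i hi => by
      have h0 := congrArg (fun d => d 0) hi
      simp only [dExp_zero] at h0
      fin_cases i
      · simp at h0; exact hp.ne_one h0
      · simp at h0
    have hd : dExp p = Finsupp.single 0 1 + Finsupp.single 1 (p - 1) := rfl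
    have hbin : coeff (dExp p) ((X 0 + X 1 : MvPolynomial (Fin 2) ℤ) ^ p) = p := by
      rw [add_pow, coeff_sum, Finset.sum_eq_single 1]
      · rw [pow_one, Nat.choose_one_right, ← map_natCast (C (σ := Fin 2) (R := ℤ)), mul_comm, coeff_C_mul,
          X_pow_eq_monomial, X, monomial_mul, hd, coeff_monomial, if_pos rfl]
        simp
      · intro j hj hj1
        rw [← map_natCast (C (σ := Fin 2) (R := ℤ)), mul_comm, coeff_C_mul, X_pow_eq_monomial, X_pow_eq_monomial,
          monomial_mul, coeff_monomial, if_neg, mul_zero]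
        intro h
        have h0 := congrArg (fun d => d 0) h
        simp [dExp_zero] at h0
        exact hj1 h0
      · intro hnm
        exact absurd (Finset.mem_range.2 (by have := hp.two_le; omega)) hnm
    rw [neg_pow] at h2
    simp only [coeff_neg, coeff_add, X_pow_eq_monomial, coeff_monomial, if_neg (hne _), zero_add, add_zero] at h2
    rw [show ((-1 : MvPolynomial (Fin 2) ℤ) ^ p) = C ((-1) ^ p) by simp, coeff_C_mul, hbin,
      ← map_natCast (C (σ := Fin 2) (R := ℤ)), coeff_C_mul] at h2
    exact mul_left_cancel₀ (Nat.cast_ne_zero.2 hp.ne_zero) (by rw [← h2]; ring)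
  have h3 : aeval (spec k) G = map (Int.castRingHom k) (aeval sZ G) := by
    refine DFunLike.congr_fun (MvPolynomial.ringHom_ext (f := (aeval (spec k)).toRingHom)
      (g := (map (Int.castRingHom k)).comp (aeval sZ).toRingHom) (fun z => by simp) fun i => ?_) G
    simp only [RingHom.comp_apply, AlgHom.toRingHom_eq_coe, RingHom.coe_coe, aeval_X, spec, sZ]
    split_ifs <;> simp
  rw [h3, coeff_map, hc]
  simp

variable (k) in
/-- The weight zero functional. -/
noncomputable def weightZero (p n : ℕ) : MvPolynomial (Fin n × Fin 2) k →ₗ[k] k :=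
  Finsupp.linearCombination k (fun d : Fin n × Fin 2 →₀ ℕ =>
    if ∀ i, d (i, 0) = d (i, 1) then coeff (dExp p) (∏ i, spec k i ^ d (i, 0)) else 0) ∘ₗ
    (AddMonoidAlgebra.coeffLinearEquiv k).toLinearMap

theorem weightZero_monomial (p n : ℕ) (d : Fin n × Fin 2 →₀ ℕ) (c : k) :
    weightZero k p n (monomial d c) =
      c * if ∀ i, d (i, 0) = d (i, 1) then coeff (dExp p) (∏ i, spec k i ^ d (i, 0)) else 0 := by
  simp [weightZero, monomial, Finsupp.linearCombination_single]

/-- The ideal of the `p`-th infinitesimal neighbourhood of the split quadric. -/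
noncomputable abbrev quadIdeal (k : Type u) [Field k] (p n : ℕ) : Ideal (MvPolynomial (Fin n × Fin 2) k) :=
  Ideal.span (insert (∑ i : Fin n, X (i, (0 : Fin 2)) * X (i, (1 : Fin 2)))
    (Set.range fun v : Fin n × Fin 2 => (X v : MvPolynomial (Fin n × Fin 2) k) ^ p))

theorem weightZero_eq_zero {n : ℕ} (hn : 3 ≤ n) {f : MvPolynomial (Fin n × Fin 2) k} (hf : f ∈ quadIdeal k p n) :
    weightZero k p n f = 0 := by
  classical
  have hp := (Fact.out : p.Prime).ne_zero
  suffices ∀ g ∈ insert (∑ i : Fin n, X (i, (0 : Fin 2)) * X (i, (1 : Fin 2)))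
      (Set.range fun v : Fin n × Fin 2 => (X v : MvPolynomial (Fin n × Fin 2) k) ^ p),
      ∀ a, weightZero k p n (a * g) = 0 by
    induction hf using Submodule.span_induction with
    | mem g hg => simpa using this g hg 1
    | zero => simp
    | add a b _ _ ha hb => rw [map_add, ha, hb, add_zero]
    | smul a g hg ih =>
      clear ih
      induction hg using Submodule.span_induction generalizing a with
      | mem g hg => exact this g hg a
      | zero => simp
      | add b c _ _ hb hc => rw [smul_add, map_add, hb, hc, add_zero]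
      | smul b g _ ih => rw [smul_smul]; exact ih _
  intro g hg a
  induction a using MvPolynomial.induction_on' with
  | add a b ha hb => rw [add_mul, map_add, ha, hb, add_zero]
  | monomial d c =>
    rcases hg with rfl | ⟨v, rfl⟩
    · rw [Finset.mul_sum, map_sum]
      simp only [X, monomial_mul, mul_one, weightZero_monomial]
      have hbal : ∀ j : Fin n, (∀ i, (d + (Finsupp.single (j, (0 : Fin 2)) 1 + Finsupp.single (j, (1 : Fin 2)) 1) : Fin n × Fin 2 →₀ ℕ) (i, 0) =
          (d + (Finsupp.single (j, (0 : Fin 2)) 1 + Finsupp.single (j, (1 : Fin 2)) 1) : Fin n × Fin 2 →₀ ℕ) (i, 1)) ↔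
          ∀ i, d (i, 0) = d (i, 1) := fun j => forall_congr' fun i => by
        simp [Finsupp.single_apply, Prod.ext_iff]
      by_cases hd : ∀ i, d (i, 0) = d (i, 1)
      · simp only [hbal, hd, implies_true, if_true, ← Finset.mul_sum, ← coeff_sum]
        have : ∀ j : Fin n, ∏ i, spec k i ^
            (d + (Finsupp.single (j, (0 : Fin 2)) 1 + Finsupp.single (j, (1 : Fin 2)) 1) : Fin n × Fin 2 →₀ ℕ) (i, 0) =
            (∏ i, spec k i ^ d (i, 1)) * spec k j := fun j => by
          have e : ∀ i, (d + (Finsupp.single (j, (0 : Fin 2)) 1 + Finsupp.single (j, (1 : Fin 2)) 1) :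
              Fin n × Fin 2 →₀ ℕ) (i, 0) = d (i, 1) + if j = i then 1 else 0 := fun i => by
            simp [Finsupp.single_apply, Prod.ext_iff, hd]
          simp only [e, pow_add, Finset.prod_mul_distrib]
          congr 1
          simp [Finset.prod_ite_eq]
        simp only [this, ← Finset.mul_sum]
        rw [sum_spec hn (spec k) (fun i hi => by simp only [spec]; rw [if_neg (by omega), if_neg (by omega), if_neg (by omega)])]
        simp [spec]
      · simp only [hbal, if_neg hd, mul_zero, Finset.sum_const_zero]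
    · simp only [X_pow_eq_monomial, monomial_mul, mul_one, weightZero_monomial]
      split_ifs with hb
      · refine mul_eq_zero_of_right _ ?_
        obtain ⟨j, e⟩ := v
        have hpj : p ≤ (d + Finsupp.single (j, e) p) (j, 0) := by
          have hbj := hb j
          fin_cases e
          · simp
          · simp [Finsupp.single_apply, Prod.ext_iff] at hbj ⊢; omega
        rw [← Finset.mul_prod_erase _ _ (Finset.mem_univ j), ← Nat.add_sub_cancel' hpj, pow_add, mul_assoc]
        exact coeff_spec_pow_mul j _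
      · simp

theorem weightZero_aeval {n : ℕ} (f : MvPolynomial (Fin n) k) :
    weightZero k p n (aeval (fun i => X (i, (0 : Fin 2)) * X (i, (1 : Fin 2))) f) =
      coeff (dExp p) (aeval (spec k) f) := by
  classical
  induction f using MvPolynomial.induction_on' with
  | add a b ha hb => simp only [map_add, coeff_add, ha, hb]
  | monomial d c =>
    let D : Fin n × Fin 2 →₀ ℕ := Finsupp.equivFunOnFinite.symm fun v => d v.1
    have : aeval (fun i => (X (i, (0 : Fin 2)) * X (i, (1 : Fin 2)) : MvPolynomial (Fin n × Fin 2) k)) (monomial d c) =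
        monomial D c := by
      rw [aeval_monomial, Finsupp.prod_fintype _ _ (fun i => pow_zero _), monomial_eq,
        Finsupp.prod_fintype _ _ (fun i => pow_zero _), algebraMap_eq, Fintype.prod_prod_type]
      congr 1
      refine Finset.prod_congr rfl fun i _ => ?_
      rw [Fin.prod_univ_two, mul_pow]
      rfl
    rw [this, weightZero_monomial, if_pos (fun i => by simp [D]), aeval_monomial,
      Finsupp.prod_fintype _ _ (fun i => pow_zero _), algebraMap_eq, coeff_C_mul]
    rfl

theorem weightZero_one (hn : 3 ≤ 3) (n : ℕ) : weightZero k p n 1 = 0 := by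
  rw [show (1 : MvPolynomial (Fin n × Fin 2) k) = monomial 0 1 by simp]
  simp only [weightZero_monomial, Finsupp.coe_zero, Pi.zero_apply, implies_true, if_true, pow_zero,
    Finset.prod_const_one, one_mul]
  rw [coeff_one, if_neg]
  intro h
  have := congrArg (fun d => d 0) h
  simp [dExp_zero] at this

variable (k) in
/-- The mixed terms, in the variables of the quadric. -/
noncomputable def mixedQ {n : ℕ} (G : MvPolynomial (Fin n) ℤ) : MvPolynomial (Fin n × Fin 2) k :=
  aeval (fun i => X (i, (0 : Fin 2)) * X (i, (1 : Fin 2))) G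

theorem mixedQ_add_notMem {n : ℕ} (hn : 3 ≤ n) {G : MvPolynomial (Fin n) ℤ}
    (hG : (∑ i, X i) ^ p - ∑ i, X i ^ p = (p : MvPolynomial (Fin n) ℤ) * G) (c : k) :
    mixedQ k G + C c ∉ quadIdeal k p n := by
  intro h
  have h0 := weightZero_eq_zero hn h
  rw [map_add, C_eq_smul_one, map_smul, weightZero_one le_rfl, smul_zero, add_zero] at h0
  have e : mixedQ k G = aeval (fun i => X (i, (0 : Fin 2)) * X (i, (1 : Fin 2))) (map (Int.castRingHom k) G) := by
    rw [← algebraMap_int_eq, aeval_map_algebraMap]; rfl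
  rw [e, weightZero_aeval, ← algebraMap_int_eq, aeval_map_algebraMap] at h0
  exact coeff_mixed hn hG h0

variable [PerfectRing k p]

theorem not_isW2Liftable_quadric {n : ℕ} (hn : 3 ≤ n) :
    ¬ FrobAlg.IsW2Liftable p k (MvPolynomial (Fin n × Fin 2) k ⧸ quadIdeal k p n) := by
  rintro ⟨S, _, ι, π, hS⟩
  obtain ⟨G, hG⟩ := exists_mixed p n
  choose V hV using fun v => hS.surj (Ideal.Quotient.mk (quadIdeal k p n) (X v))
  let t : Fin n → S := fun i => V (i, 0) * V (i, 1)
  have hp2 : (p : S) * p = 0 := p_mul_p' ι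
  have hVp : ∀ v, ∃ a, V v ^ p = (p : S) * a := fun v => exists_eq_p_mul_of_pi hS (by
    rw [map_pow, hV, ← map_pow, Ideal.Quotient.eq_zero_iff_mem]
    exact Ideal.subset_span (Set.mem_insert_of_mem _ ⟨v, rfl⟩))
  have htp : ∀ i, t i ^ p = 0 := fun i => by
    obtain ⟨a, ha⟩ := hVp (i, 0)
    obtain ⟨b, hb⟩ := hVp (i, 1)
    simp only [t]
    rw [mul_pow, ha, hb]
    linear_combination (a * b) * hp2
  obtain ⟨h, hh⟩ := exists_eq_p_mul_of_pi hS (x := ∑ i, t i) (by
    simp only [t, map_sum, map_mul, hV]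
    simp only [← map_mul, ← map_sum]
    rw [Ideal.Quotient.eq_zero_iff_mem]
    exact Ideal.subset_span (Set.mem_insert _ _))
  have h1 := congrArg (aeval t) hG
  simp only [map_sub, map_pow, map_sum, aeval_X, map_mul, map_natCast, htp, Finset.sum_const_zero, sub_zero, hh] at h1
  obtain ⟨r, hr⟩ : ∃ r, p = r + 2 := ⟨p - 2, by have := (Fact.out : p.Prime).two_le; omega⟩
  have h2 : (p : S) * aeval t G = 0 := by
    rw [← h1, mul_pow, show (p : S) ^ p = (p : S) * p * (p : S) ^ r by rw [mul_assoc, ← pow_succ', ← pow_succ', ← hr],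
      hp2, zero_mul, zero_mul]
  have h3 := (p_mul_eq_zero_iff hS).1 h2
  refine mixedQ_add_notMem hn hG (0 : k) ?_
  rw [map_zero, add_zero, ← Ideal.Quotient.eq_zero_iff_mem, ← h3]
  refine DFunLike.congr_fun (MvPolynomial.ringHom_ext
    (f := (Ideal.Quotient.mk (quadIdeal k p n)).comp
      (aeval (fun i => (X (i, (0 : Fin 2)) * X (i, (1 : Fin 2)) : MvPolynomial (Fin n × Fin 2) k))).toRingHom)
    (g := π.comp (aeval (R := ℤ) t).toRingHom) (fun z => by simp) (fun i => by simp [t, hV])) G

theorem not_isFLiftable_quadric {n : ℕ} (hn : 3 ≤ n) :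
    ¬ FrobAlg.IsFLiftable p k (MvPolynomial (Fin n × Fin 2) k ⧸ Ideal.span
        {(∑ i : Fin n, X (i, (0 : Fin 2)) * X (i, (1 : Fin 2)) : MvPolynomial (Fin n × Fin 2) k)}) := by
  set I := Ideal.span {(∑ i : Fin n, X (i, (0 : Fin 2)) * X (i, (1 : Fin 2)) : MvPolynomial (Fin n × Fin 2) k)}
  rintro ⟨S, _, ι, π, Φ, hF⟩
  have hS := hF.toIsLift
  obtain ⟨G, hG⟩ := exists_mixed p n
  choose V hV using fun v => hS.surj (Ideal.Quotient.mk I (X v))
  let t : Fin n → S := fun i => V (i, 0) * V (i, 1)
  have hp2 : (p : S) * p = 0 := p_mul_p' ι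
  have hΦ : ∀ x, ∃ a, Φ x = x ^ p + (p : S) * a := fun x => by
    obtain ⟨a, ha⟩ := exists_eq_p_mul_of_pi hS (x := Φ x - x ^ p) (by rw [map_sub, hF.red, map_pow, sub_self])
    exact ⟨a, eq_add_of_sub_eq' ha⟩
  obtain ⟨h, hh⟩ := exists_eq_p_mul_of_pi hS (x := ∑ i, t i) (by
    simp only [t, map_sum, map_mul, hV]
    simp only [← map_mul, ← map_sum]
    rw [Ideal.Quotient.eq_zero_iff_mem]
    exact Ideal.subset_span rfl)
  choose a ha using fun i : Fin n => hΦ (V (i, 0))
  choose b hb using fun i : Fin n => hΦ (V (i, 1))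
  obtain ⟨e, he⟩ := hΦ h
  have h1 := congrArg (aeval t) hG
  simp only [map_sub, map_pow, map_sum, aeval_X, map_mul, map_natCast, hh] at h1
  obtain ⟨r, hr⟩ : ∃ r, p = r + 2 := ⟨p - 2, by have := (Fact.out : p.Prime).two_le; omega⟩
  rw [mul_pow, show (p : S) ^ p = (p : S) * p * (p : S) ^ r by rw [mul_assoc, ← pow_succ', ← pow_succ', ← hr],
    hp2, zero_mul, zero_mul, zero_sub] at h1
  have h2 : ∀ i, Φ (t i) = t i ^ p + (p : S) * (a i * V (i, 1) ^ p + b i * V (i, 0) ^ p) := fun i => by
    simp only [t, map_mul, ha, hb]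
    linear_combination (a i * b i) * hp2
  have h3 := congrArg Φ hh
  simp only [map_sum, map_mul, map_natCast, h2, he, Finset.sum_add_distrib, ← Finset.mul_sum] at h3
  have h4 : (p : S) * (-aeval t G + ∑ i, (a i * V (i, 1) ^ p + b i * V (i, 0) ^ p) - h ^ p) = 0 := by
    rw [mul_sub, mul_add, mul_neg, ← h1, neg_neg, Finset.sum_add_distrib]
    linear_combination h3 + e * hp2
  have h5 := (p_mul_eq_zero_iff hS).1 h4
  choose a' ha' using fun i => Ideal.Quotient.mk_surjective (π (a i))
  choose b' hb' using fun i => Ideal.Quotient.mk_surjective (π (b i))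
  obtain ⟨h', hh'⟩ := Ideal.Quotient.mk_surjective (π h)
  have hmix : π (aeval t G) = Ideal.Quotient.mk I (mixedQ k G) :=
    (DFunLike.congr_fun (MvPolynomial.ringHom_ext
      (f := (Ideal.Quotient.mk I).comp
        (aeval (fun i => (X (i, (0 : Fin 2)) * X (i, (1 : Fin 2)) : MvPolynomial (Fin n × Fin 2) k))).toRingHom)
      (g := π.comp (aeval (R := ℤ) t).toRingHom) (fun z => by simp) (fun i => by simp [t, hV])) G).symm
  simp only [map_sub, map_add, map_neg, map_sum, map_mul, map_pow, hV, hmix, ← ha', ← hb', ← hh'] at h5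
  simp only [← map_pow, ← map_mul, ← map_add, ← map_sum, ← map_neg, ← map_sub, Ideal.Quotient.eq_zero_iff_mem] at h5
  have hIJ : I ≤ quadIdeal k p n := Ideal.span_mono (by simp)
  have hX : ∀ v : Fin n × Fin 2, X v ^ p ∈ quadIdeal k p n := fun v =>
    Ideal.subset_span (Set.mem_insert_of_mem _ ⟨v, rfl⟩)
  have hpow : h' ^ p - C (constantCoeff h' ^ p) ∈ quadIdeal k p n := by
    rw [C_pow, ← sub_pow_char]
    clear hh' h5
    induction h' using MvPolynomial.induction_on' with
    | add f g hf hg =>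
      rw [map_add, C_add, add_sub_add_comm, add_pow_char]
      exact Ideal.add_mem _ hf hg
    | monomial d c =>
      classical
      by_cases hd : d = 0
      · subst hd; simp [constantCoeff_monomial, zero_pow (Fact.out : p.Prime).ne_zero]
      · obtain ⟨v, hv⟩ := Finsupp.ne_iff.1 hd
        rw [constantCoeff_monomial, if_neg hd, C_0, sub_zero]
        have hle : Finsupp.single v 1 ≤ d := by
          rw [Finsupp.single_le_iff]; exact Nat.one_le_iff_ne_zero.2 hv
        rw [← add_tsub_cancel_of_le hle, ← mul_one c, ← one_mul c, monomial_single_add, pow_one, mul_pow]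
        exact Ideal.mul_mem_right _ _ (hX v)
  refine mixedQ_add_notMem hn hG (constantCoeff h' ^ p) ?_
  have hsum : ∑ i, (a' i * X (i, 1) ^ p + b' i * X (i, 0) ^ p) ∈ quadIdeal k p n :=
    Ideal.sum_mem _ fun i _ => Ideal.add_mem _ (Ideal.mul_mem_left _ _ (hX _)) (Ideal.mul_mem_left _ _ (hX _))
  have := Ideal.sub_mem _ (Ideal.sub_mem _ hsum (hIJ h5)) hpow
  convert this using 1
  ring

end Groth.Agent.W2Lib
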