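import Groth.Agent.W2Lib.Basic
import Groth.Agent.SmLift.Main
import Mathlib.RingTheory.Smooth.Flat

/-!
Frobenius liftings extend to smooth algebras.
-/

set_option autoImplicit false
set_option backward.isDefEq.respectTransparency false
set_option backward.isDefEq.respectTransparency.types false
set_option linter.style.haveILetI false

namespace Groth.Agent.W2Lib

universe u v

variable {p : ℕ} [Fact p.Prime] {k : Type u} [Field k] [CharP k p] [PerfectRing k p]

theorem exists_lift_ringHom {D R T : Type v} [CommRing D] [CommRing R] [CommRing T] [Algebra D R]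
    [Algebra.FormallySmooth D R] (ψ : D →+* T) (J : Ideal T) (hJ : IsNilpotent J) (g₀ : R →+* T ⧸ J)
    (hg : ∀ a, g₀ (algebraMap D R a) = Ideal.Quotient.mk J (ψ a)) :
    ∃ f : R →+* T, (∀ a, f (algebraMap D R a) = ψ a) ∧ ∀ x, Ideal.Quotient.mk J (f x) = g₀ x := by
  letI := ψ.toAlgebra
  obtain ⟨f, hf⟩ := Algebra.FormallySmooth.exists_lift J hJ ({ toRingHom := g₀, commutes' := hg } : R →ₐ[D] T ⧸ J)
  exact ⟨f.toRingHom, f.commutes, fun x => AlgHom.congr_fun hf x⟩

theorem isFLiftable_of_smooth (A C : Type v) [CommRing A] [CommRing C] [Algebra k A] [Algebra k C]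
    [Algebra A C] [IsScalarTower k A C] [Algebra.Smooth A C]
    (hA : FrobAlg.IsFLiftable p k A) : FrobAlg.IsFLiftable p k C := by
  obtain ⟨Al, _, ι, π, Φ, hL⟩ := hA
  by_cases hC : Subsingleton C
  · refine ⟨C, inferInstance, (algebraMap k C).comp (FrobAlg.res p k), RingHom.id C, RingHom.id C,
      ⟨isLift_of (fun b => ⟨b, rfl⟩) (fun x _ => ⟨0, Subsingleton.elim _ _⟩) (fun x _ => Subsingleton.elim _ _) rfl,
      RingHom.ext fun _ => Subsingleton.elim _ _, fun b => Subsingleton.elim _ _⟩⟩
  haveI := not_subsingleton_iff_nontrivial.1 hC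
  haveI : CharP C p := charP_of_injective_algebraMap (algebraMap k C).injective p
  let I : Ideal Al := RingHom.ker π
  let e : (Al ⧸ I) ≃+* A := RingHom.quotientKerEquivOfSurjective hL.surj
  letI : Algebra (Al ⧸ I) A := e.toRingHom.toAlgebra
  letI : Algebra (Al ⧸ I) C := ((algebraMap A C).comp e.toRingHom).toAlgebra
  letI : Algebra Al C := ((algebraMap A C).comp π).toAlgebra
  haveI : IsScalarTower (Al ⧸ I) A C := IsScalarTower.of_algebraMap_eq' rfl
  haveI : IsScalarTower Al (Al ⧸ I) C := IsScalarTower.of_algebraMap_eq fun a => rfl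
  haveI : Algebra.Smooth (Al ⧸ I) A :=
    (RingHom.smooth_algebraMap.1 (RingHom.Smooth.of_bijective (f := algebraMap (Al ⧸ I) A) e.bijective))
  haveI : Algebra.Smooth (Al ⧸ I) C := Algebra.Smooth.comp (Al ⧸ I) A C
  obtain ⟨R, _, _, hsm, πC, hsurj, hker⟩ := Groth.Agent.SmLift.exists_smooth_lift (I := I) (C := C)
  let ιC : FrobAlg.W2 p k →+* R := (algebraMap Al R).comp ι
  have hkerp : RingHom.ker πC.toRingHom = Ideal.span {(p : R)} := by
    rw [hker, show I = Ideal.span {(p : Al)} from ker_eq_span hL.toIsLift, Ideal.map_span, Set.image_singleton,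
      map_natCast]
  have hC : FrobAlg.IsLift p k C R ιC πC.toRingHom := by
    refine ⟨RingHom.Flat.comp hL.flat ?_, hsurj, ?_, ?_⟩
    · exact (RingHom.flat_algebraMap_iff).2 inferInstance
    · rw [hkerp, ker_res, Ideal.map_span, Set.image_singleton, map_natCast]
    · refine RingHom.ext fun w => ?_
      show πC (algebraMap Al R (ι w)) = _
      rw [πC.commutes]
      show algebraMap A C (π (ι w)) = _
      rw [← RingHom.comp_apply π, hL.comm, RingHom.comp_apply, ← IsScalarTower.algebraMap_apply]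
      rfl
  let J : Ideal R := Ideal.span {(p : R)}
  let q : C ≃+* R ⧸ J := ((Ideal.quotEquivOfEq hkerp.symm).trans
    (RingHom.quotientKerEquivOfSurjective hsurj)).symm
  have hq : ∀ x, q.symm (Ideal.Quotient.mk J x) = πC x := fun x => rfl
  let g₀ : R →+* R ⧸ J := q.toRingHom.comp ((frobenius C p).comp πC.toRingHom)
  have key : ∃ Φ' : R →+* R, (∀ a, Φ' (algebraMap Al R a) = algebraMap Al R (Φ a)) ∧
      ∀ x, πC (Φ' x) = πC x ^ p := by
    obtain ⟨f, hf₁, hf₂⟩ := exists_lift_ringHom ((algebraMap Al R).comp Φ) J ⟨2, by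
        rw [Ideal.span_singleton_pow, Ideal.zero_eq_bot, Ideal.span_singleton_eq_bot, pow_two, p_mul_p' ιC]⟩ g₀
      (fun a => by
        refine q.symm.injective ?_
        rw [hq]
        show q.symm (q (πC (algebraMap Al R a) ^ p)) = πC (algebraMap Al R (Φ a))
        rw [q.symm_apply_apply, πC.commutes, πC.commutes]
        show algebraMap A C (π a) ^ p = algebraMap A C (π (Φ a))
        rw [hL.red, map_pow])
    refine ⟨f, hf₁, fun x => ?_⟩
    rw [← hq, hf₂]
    show q.symm (q (πC x ^ p)) = _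
    rw [q.symm_apply_apply]
  obtain ⟨Φ', hΦ, hred⟩ := key
  refine ⟨R, inferInstance, ιC, πC.toRingHom, Φ', hC, ?_, hred⟩
  refine RingHom.ext fun w => ?_
  show Φ' (algebraMap Al R (ι w)) = algebraMap Al R (ι (FrobAlg.sigma p k w))
  rw [hΦ, ← RingHom.comp_apply Φ, hL.semi]
  rfl

theorem isFLiftable_self : FrobAlg.IsFLiftable p k k := by
  refine ⟨FrobAlg.W2 p k, inferInstance, RingHom.id _, FrobAlg.res p k, FrobAlg.sigma p k,
    ⟨isLift_of (fun c => ⟨WittVector.truncate 2 (WittVector.teichmuller p c), ?_⟩) (fun x hx => exists_eq_p_mul hx)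
      (fun x hx => res_eq_zero_of_p_mul hx) rfl, rfl, fun b => ?_⟩⟩
  · rw [res_truncate']; exact WittVector.teichmuller_coeff_zero _ _
  · obtain ⟨z, hz⟩ := exists_sigma_eq_pow_add b
    rw [hz, map_add, map_pow, map_mul, res_p, zero_mul, add_zero]

end Groth.Agent.W2Lib
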