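import Mathlib
import Groth.Prelude.Def_WittGrp

/-!
# The shift on truncated Witt vectors in characteristic `p`
-/

set_option autoImplicit false
set_option backward.isDefEq.respectTransparency false

namespace Groth.Agent.W2Lib

universe u

variable {p : ℕ} [Fact p.Prime] {m : ℕ} {R : Type u} [CommRing R] [CharP R p]

theorem mul_shift (hp : (p : R) = 0) (y : TruncatedWittVector p (m + 1) R) (x : TruncatedWittVector p m R) :
    y * WittGrp.shift p (Nat.le_succ m) x =
      WittGrp.shift p (Nat.le_succ m) (WittGrp.frob p m hp (TruncatedWittVector.truncate (Nat.le_succ m) y) * x) := by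
  obtain ⟨Y, rfl⟩ := WittVector.truncate_surjective p (m + 1) R y
  obtain ⟨X, rfl⟩ := WittVector.truncate_surjective p m R x
  rw [TruncatedWittVector.truncate_wittVector_truncate, WittGrp.frob_truncate p m hp, WittGrp.shift_truncate,
    ← map_mul, ← map_mul, WittGrp.shift_truncate, show m.succ - m = 1 by omega, Function.iterate_one,
    mul_comm (WittVector.frobenius Y), WittVector.verschiebung_mul_frobenius, mul_comm]

theorem natCast_mul_eq_shift (hp : (p : R) = 0) (y : TruncatedWittVector p (m + 1) R) :
    (p : TruncatedWittVector p (m + 1) R) * y =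
      WittGrp.shift p (Nat.le_succ m) (WittGrp.frob p m hp (TruncatedWittVector.truncate (Nat.le_succ m) y)) := by
  obtain ⟨Y, rfl⟩ := WittVector.truncate_surjective p (m + 1) R y
  rw [TruncatedWittVector.truncate_wittVector_truncate, WittGrp.frob_truncate p m hp, WittGrp.shift_truncate,
    show m.succ - m = 1 by omega, Function.iterate_one, WittVector.verschiebung_frobenius, map_mul, map_natCast,
    mul_comm]

omit [CharP R p] in
/-- The first component as a ring homomorphism. -/
theorem coeff_zero_sub (x y : TruncatedWittVector p (m + 1) R) : (x - y).coeff 0 = x.coeff 0 - y.coeff 0 := by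
  obtain ⟨X, rfl⟩ := WittVector.truncate_surjective p (m + 1) R x
  obtain ⟨Y, rfl⟩ := WittVector.truncate_surjective p (m + 1) R y
  rw [← map_sub, WittVector.coeff_truncate, WittVector.coeff_truncate, WittVector.coeff_truncate]
  exact map_sub WittVector.constantCoeff X Y

omit [CharP R p] in
theorem coeff_zero_shift (x : TruncatedWittVector p m R) :
    (WittGrp.shift p (Nat.le_succ m) x).coeff 0 = 0 := by
  rw [WittGrp.coeff_shift, dif_neg]
  simp

omit [CharP R p] in
theorem shift_injective :
    Function.Injective (WittGrp.shift p (Nat.le_succ m) : TruncatedWittVector p m R → TruncatedWittVector p (m + 1) R) := by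
  intro x y h
  refine TruncatedWittVector.ext fun i => ?_
  have h1 := congrArg (fun z : TruncatedWittVector p (m + 1) R => z.coeff i.succ) h
  have hi : m + 1 - m ≤ ((i.succ : Fin (m + 1)) : ℕ) := by simp
  simp only [WittGrp.coeff_shift, dif_pos hi] at h1
  convert h1 using 2 <;> exact Fin.ext (by simp)

omit [CharP R p] in
theorem exists_shift_eq {w : TruncatedWittVector p (m + 1) R} (h : w.coeff 0 = 0) :
    ∃ x, WittGrp.shift p (Nat.le_succ m) x = w := by
  refine ⟨TruncatedWittVector.mk p fun i => w.coeff i.succ, TruncatedWittVector.ext fun i => ?_⟩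
  rw [WittGrp.coeff_shift]
  split_ifs with hi
  · rw [TruncatedWittVector.coeff_mk]
    congr 1
    exact Fin.ext (by simp only [Fin.val_succ]; omega)
  · obtain rfl : i = 0 := Fin.ext (by
      simp only [not_le] at hi
      simp only [Fin.val_zero]
      omega)
    exact h.symm

end Groth.Agent.W2Lib
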